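import Groth.Agent.LefAlg.RelVan.Lef
import Groth.Agent.Calg6.ProperStalk
import Groth.Agent.Smt.GlueLocal
import Groth.Agent.Inter.CartierH0
import Groth.Agent.ParaFormal.FsReduce
import Groth.Agent.S2824
import Groth.Agent.S2951
import Groth.Agent.LefAlg.PicHelpers

/-!
# Fibres of a flat divisor; parafactoriality from the fibres
-/

set_option autoImplicit false

universe u

open CategoryTheory CategoryTheory.Limits AlgebraicGeometry TopologicalSpace Pointwise

namespace Groth.RelVan

theorem depth_ne_top' (B : Type u) [CommRing B] [IsLocalRing B] [IsNoetherianRing B] :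
    LocCoh.depth B B ≠ ⊤ := fun h => by
  have h1 := Groth.LocCohBase.smul_maximalIdeal_ne_top (R := B) B
    (IsLocalRing.maximalIdeal.isMaximal B).ne_top
  exact Groth.LocCohBase.idealDepth_ne_top h1 h

/-- A regular equation drops the depth by one. -/
theorem depth_quotient_add_one {B C : Type u} [CommRing B] [IsLocalRing B] [IsNoetherianRing B]
    [CommRing C] [IsLocalRing C] [IsNoetherianRing C] {g : B} (hg : g ∈ IsLocalRing.maximalIdeal B)
    (hreg : IsSMulRegular B g) (e : B ⧸ Ideal.span {g} ≃+* C) :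
    LocCoh.depth C C + 1 = LocCoh.depth B B := by
  have : IsLocalRing (B ⧸ Ideal.span {g}) := e.symm.isLocalRing
  have h1 : g • (⊤ : Submodule B B) = Ideal.span {g} := by
    ext b
    simp only [Submodule.mem_smul_pointwise_iff_exists, Submodule.mem_top, true_and, smul_eq_mul,
      Ideal.mem_span_singleton']
    exact ⟨fun ⟨a, ha⟩ => ⟨a, by rw [← ha, mul_comm]⟩, fun ⟨a, ha⟩ => ⟨a, by rw [← ha, mul_comm]⟩⟩
  have h2 : LocCoh.depth B (QuotSMulTop g B) = LocCoh.depth (B ⧸ Ideal.span {g}) (B ⧸ Ideal.span {g}) :=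
    (Groth.LocCohBase.idealDepth_congr (Submodule.quotEquivOfEq _ _ h1)).trans
      (Groth.Smt.depth_eq_of_surjective B (B ⧸ Ideal.span {g}) Ideal.Quotient.mk_surjective)
  rw [← le_antisymm (Groth.ParaFormal.FsReduce.depth_le_of_ringEquiv e)
    (Groth.ParaFormal.FsReduce.depth_le_of_ringEquiv e.symm), ← h2]
  exact Groth.LocCohBase.idealDepth_quotSMulTop_add_one _ B
    (Groth.LocCohBase.smul_maximalIdeal_ne_top B (IsLocalRing.maximalIdeal.isMaximal B).ne_top) hg hreg

variable {X S : Scheme.{u}} (f : X ⟶ S)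

/-- Closedness of a point in its fibre. -/
theorem isClosed_asFiber_iff (x : X) :
    IsClosed ({f.asFiber x} : Set (f.fiber (f x))) ↔ ∀ y : X, x ⤳ y → f y = f x → y = x := by
  have hι := (f.fiberι (f x)).isEmbedding
  constructor
  · intro h y hy hf
    obtain ⟨z, rfl⟩ : y ∈ Set.range (f.fiberι (f x)) := by rw [f.range_fiberι]; exact hf
    have hy' : f.fiberι (f x) (f.asFiber x) ⤳ f.fiberι (f x) z := (f.fiberι_asFiber x).symm ▸ hy
    have := h.stableUnderSpecialization ((hι.isInducing.specializes_iff).1 hy') rfl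
    rw [Set.mem_singleton_iff.1 this]
    exact f.fiberι_asFiber x
  · intro h
    refine isClosed_of_closure_subset fun z hz => ?_
    have hz' : f.asFiber x ⤳ z := specializes_iff_mem_closure.2 hz
    have h1 := hz'.map (f.fiberι (f x)).continuous
    rw [f.fiberι_asFiber x] at h1
    have h2 : f.fiberι (f x) z ∈ f ⁻¹' {f x} := f.range_fiberι (f x) ▸ ⟨z, rfl⟩
    exact hι.injective ((h _ h1 h2).trans (f.fiberι_asFiber x).symm)

theorem isClosed_asFiber_comp {Z : Scheme.{u}} (i : Z ⟶ X) [IsClosedImmersion i] (z : Z)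
    (h : IsClosed ({(i ≫ f).asFiber z} : Set ((i ≫ f).fiber ((i ≫ f) z)))) :
    IsClosed ({f.asFiber (i z)} : Set (f.fiber (f (i z)))) := by
  rw [isClosed_asFiber_iff] at h ⊢
  intro y hy hf
  obtain ⟨w, rfl⟩ := i.isClosedEmbedding.isClosed_range.stableUnderSpecialization hy ⟨z, rfl⟩
  exact congrArg i (h w (i.isClosedEmbedding.isInducing.specializes_iff.1 hy) hf)

variable [IsLocallyNoetherian X] [IsLocallyNoetherian S] [Flat f]

/-- A flat Cartier divisor drops the depth of the fibres by one. -/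
theorem depth_fiberStalk_divisor (I : X.IdealSheafData) (hI : BlowUp.IsEffCartierIdeal I)
    [Flat (I.subschemeι ≫ f)] (z : I.subscheme) :
    LocCoh.depth (CInt.fiberStalk (I.subschemeι ≫ f) z) (CInt.fiberStalk (I.subschemeι ≫ f) z) + 1 =
      LocCoh.depth (CInt.fiberStalk f (I.subschemeι z)) (CInt.fiberStalk f (I.subschemeι z)) := by
  have : IsLocallyNoetherian I.subscheme := LocallyOfFiniteType.isLocallyNoetherian I.subschemeι
  let x := I.subschemeι z
  obtain ⟨W, hxW, -, k, -, hnzd, hW⟩ := Groth.PicAux.exists_gen_idealMod hI x ⊤ trivial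
  let g : X.presheaf.stalk x := X.presheaf.germ W.1 x hxW (OmegaSh.idealSect I W.1 k)
  have hx : x ∈ I.support := by
    have : x ∈ Set.range I.subschemeι := ⟨z, rfl⟩
    rwa [Scheme.IdealSheafData.range_subschemeι] at this
  have hg : g ∈ IsLocalRing.maximalIdeal (X.presheaf.stalk x) :=
    (Groth.Divisors.mem_support_iff_not_isUnit hW hxW).1 hx
  obtain ⟨e⟩ := Groth.Calg6.ProperStalk.exists_stalk_equiv I z
  have he : IntMult.stalkIdeal I x = Ideal.span {g} := by
    rw [Groth.ParaFormal.stalkIdeal_eq I W hxW, hW, Ideal.map_span, Set.image_singleton]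
  have h := depth_quotient_add_one hg ((isRegular_iff_mem_nonZeroDivisors.2 (hnzd x hxW)).left)
    ((Ideal.quotEquivOfEq he.symm).trans e)
  rw [Groth.Ega4b.depth_stalk_eq_add (I.subschemeι ≫ f) z, Groth.Ega4b.depth_stalk_eq_add f x,
    add_assoc] at h
  exact WithTop.add_left_cancel (depth_ne_top' (S.presheaf.stalk (f x))) h

/-- Parafactoriality of a flat local ring from its fibre of depth three. -/
theorem isParafactorial_stalk (x : X)
    (hd : (3 : ℕ∞) ≤ LocCoh.depth (CInt.fiberStalk f x) (CInt.fiberStalk f x))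
    (hp : ParaF.IsParafactorialLocalRing (CInt.fiberStalk f x)) :
    ParaF.IsParafactorialLocalRing (X.presheaf.stalk x) := by
  algebraize [(f.stalkMap x).hom]
  have : IsLocalHom (algebraMap (S.presheaf.stalk (f x)) (X.presheaf.stalk x)) :=
    inferInstanceAs (IsLocalHom (f.stalkMap x).hom)
  have : Module.Flat (S.presheaf.stalk (f x)) (X.presheaf.stalk x) := Flat.stalkMap f x
  obtain ⟨e⟩ := Groth.Ega4b.nonempty_fiberStalk_equiv f x
  let J := (IsLocalRing.maximalIdeal (S.presheaf.stalk (f x))).map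
    (algebraMap (S.presheaf.stalk (f x)) (X.presheaf.stalk x))
  let e' : X.presheaf.stalk x ⧸ J ≃+* CInt.fiberStalk f x := e
  have : IsLocalRing (X.presheaf.stalk x ⧸ J) := e'.symm.isLocalRing
  have : IsNoetherianRing (CInt.fiberStalk f x) := isNoetherianRing_of_ringEquiv _ e'
  have hd' : (3 : ℕ∞) ≤ LocCoh.depth (X.presheaf.stalk x ⧸ J) (X.presheaf.stalk x ⧸ J) :=
    hd.trans (Groth.ParaFormal.FsReduce.depth_le_of_ringEquiv e'.symm)
  have h0 := (Groth.Agent.S2824.result _).1 (Groth.ParaFormal.FsReduce.parafactorial_of_ringEquiv e' hp)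
  refine (Groth.Agent.S2824.result _).2 ⟨Groth.LefAlg.bijective_map_punctured _ ?_, ?_⟩
  · rw [Groth.Ega4b.depth_stalk_eq_add f x]
    exact ((by norm_num : (2 : ℕ∞) ≤ 3).trans hd).trans le_add_self
  · exact fun L hL => Groth.Agent.S2951.result (S.presheaf.stalk (f x)) (X.presheaf.stalk x) hd' h0.2 L hL

end Groth.RelVan
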