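import Groth.Agent.Inter.Cartier
import Groth.Agent.KTheory.LocFree
import Groth.Agent.LefVanish.NegVanish
import Groth.Agent.Duality.Represent

/-!
# Tools: depth of `D ⊗ M` for free `D`, tensoring split sequences, split cokernels
-/

set_option autoImplicit false

universe u

open CategoryTheory CategoryTheory.Limits AlgebraicGeometry
open Groth.DerivedCoh.KFlat (stk shortExact_iff_stk tensorStkIso)

namespace Groth.RelVan

section Alg

variable {R : Type u} [CommRing R] [IsLocalRing R] [IsNoetherianRing R]
  (M : Type u) [AddCommGroup M] [Module R M] [Module.Finite R M]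

/-- Depth of a finite power. -/
theorem le_depth_pi {d : ℕ∞} (h : d ≤ LocCoh.depth R M) :
    ∀ r : ℕ, d ≤ LocCoh.depth R (Fin r → M)
  | 0 => by rw [Groth.Duality.depth_eq_top_of_subsingleton' (Fin 0 → M)]; exact le_top
  | r + 1 => by
    let f : M →ₗ[R] (Fin (r + 1) → M) := LinearMap.single R (fun _ => M) 0
    let g : (Fin (r + 1) → M) →ₗ[R] (Fin r → M) := LinearMap.funLeft R M Fin.succ
    have hf : Function.Injective f := fun a b e => Pi.single_injective (M := fun _ : Fin (r + 1) => M) 0 e
    have hg : Function.Surjective g := LinearMap.funLeft_surjective_of_injective _ _ _ (Fin.succ_injective _)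
    have hfg : Function.Exact f g := fun v => by
      constructor
      · intro e
        refine ⟨v 0, funext fun i => ?_⟩
        refine Fin.cases ?_ (fun j => ?_) i
        · simp [f]
        · rw [show v j.succ = 0 from congrFun e j]
          simp [f, Fin.succ_ne_zero]
      · rintro ⟨m, rfl⟩
        funext j
        simp [f, g, LinearMap.funLeft_apply, Fin.succ_ne_zero]
    exact (le_min h (le_depth_pi h r)).trans
      (Groth.LocCohBase.idealDepth_shortExact (IsLocalRing.maximalIdeal R) f g hf hg hfg).1

/-- Depth of the tensor product with a finite free module. -/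
theorem le_depth_tensor_free (D : Type u) [AddCommGroup D] [Module R D] [Module.Finite R D]
    [Module.Free R D] {d : ℕ∞} (h : d ≤ LocCoh.depth R M) :
    d ≤ LocCoh.depth R (TensorProduct R D M) := by
  classical
  let b := Module.Free.chooseBasis R D
  let ι := Module.Free.ChooseBasisIndex R D
  let e : TensorProduct R D M ≃ₗ[R] (Fin (Fintype.card ι) → M) :=
    ((TensorProduct.congr b.repr (LinearEquiv.refl R M)).trans
      (TensorProduct.finsuppScalarLeft _ _ _)).trans
      ((Finsupp.linearEquivFunOnFinite R M ι).trans
        (LinearEquiv.funCongrLeft R M (Fintype.equivFin ι).symm))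
  exact (le_depth_pi M h _).trans (Groth.LocCohBase.idealDepth_congr e).ge

end Alg

variable {X : Scheme.{u}}

/-- A short exact sequence with finite locally free quotient stays exact after any tensor product. -/
theorem shortExact_tensor_any {S : ShortComplex X.Modules} (hS : S.ShortExact)
    (h₃ : FlatMod.IsFinLocFree S.X₃) (T : X.Modules) :
    (S.map ((DCoh.tensorBi (X := X)).obj T)).ShortExact := by
  rw [shortExact_iff_stk]
  intro x
  refine ShortComplex.shortExact_of_iso (ShortComplex.mapNatIso _ (tensorStkIso T x)).symm ?_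
  let S₀ := S.map (stk x)
  have h : S₀.ShortExact := (shortExact_iff_stk _).1 hS x
  have he : Function.Exact S₀.f.hom S₀.g.hom :=
    LinearMap.exact_iff.2 (S₀.moduleCat_exact_iff_range_eq_ker.1 h.exact).symm
  have hs : Function.Surjective S₀.g.hom := (ModuleCat.epi_iff_surjective _).1 h.epi_g
  have hi : Function.Injective S₀.f.hom := (ModuleCat.mono_iff_injective _).1 h.mono_f
  have := Groth.KTheory.LocFree.free_stalk h₃ x
  have : Module.Free (X.presheaf.stalk x) S₀.X₃ := this
  obtain ⟨l, hl⟩ := Module.projective_lifting_property S₀.g.hom LinearMap.id hs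
  obtain ⟨e, he₁, -⟩ := he.splitSurjectiveEquiv hi ⟨l, hl⟩
  let p := (LinearMap.fst _ _ _).comp e.toLinearMap
  have hp : p.comp S₀.f.hom = LinearMap.id := by
    show ((LinearMap.fst _ _ _).comp e.toLinearMap).comp S₀.f.hom = _
    rw [he₁]
    ext t
    simp
  have hinj : Function.Injective (S₀.f.hom.lTensor ((stk x).obj T)) :=
    Function.LeftInverse.injective (g := p.lTensor ((stk x).obj T)) fun z => by
      rw [← LinearMap.lTensor_comp_apply, hp, LinearMap.lTensor_id, LinearMap.id_apply]
  exact
    { exact := (ShortComplex.moduleCat_exact_iff_range_eq_ker _).2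
        (LinearMap.exact_iff.1 (lTensor_exact ((stk x).obj T) he hs)).symm
      mono_f := (ModuleCat.mono_iff_injective _).2 hinj
      epi_g := (ModuleCat.epi_iff_surjective _).2 (LinearMap.lTensor_surjective ((stk x).obj T) hs) }

open Groth.KTheory.LocFree (stalkₗ stalk_exact)

/-- The cokernel of a map of finite locally free modules split injective on the stalks. -/
theorem isFinLocFree_cokernel_of_retraction [IsLocallyNoetherian X] {M N : X.Modules} (i : M ⟶ N)
    (hM : FlatMod.IsFinLocFree M) (hN : FlatMod.IsFinLocFree N)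
    (hr : ∀ x : X, ∃ r : N.presheaf.stalk x →ₗ[X.presheaf.stalk x] M.presheaf.stalk x,
      r.comp (stalkₗ i x) = LinearMap.id) :
    (ShortComplex.mk i (cokernel.π i) (cokernel.condition i)).ShortExact ∧
      FlatMod.IsFinLocFree (cokernel i) := by
  have := Groth.KTheory.LocFree.isQCoh hM
  have hm : Mono i := (Groth.QCohMod.mono_iff_stalk i).mpr fun x => by
    obtain ⟨r, hr⟩ := hr x
    exact Function.LeftInverse.injective (g := r) (LinearMap.congr_fun hr)
  have hS : (ShortComplex.mk i (cokernel.π i) (cokernel.condition i)).ShortExact :=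
    { exact := ShortComplex.exact_cokernel i }
  have hc : Coh.IsCoh (cokernel i) := Groth.QCohMod.isCoh_cokernel i (Groth.KTheory.LocFree.isCoh hN)
  refine ⟨hS, Groth.KTheory.LocFree.isFinLocFree_of_free_stalks hc fun x => ?_⟩
  have := hc.1
  have := Groth.QCohMod.finite_stalk (cokernel i) hc.2 x
  obtain ⟨hinj, hex, hsurj⟩ := stalk_exact hS x
  have : Module.Free (X.presheaf.stalk x) (N.presheaf.stalk x) :=
    Groth.KTheory.LocFree.free_stalk hN x
  obtain ⟨r, hr⟩ := hr x
  obtain ⟨e, -, he⟩ := hex.splitInjectiveEquiv hsurj ⟨r, hr⟩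
  let inr : (cokernel i).presheaf.stalk x →ₗ[X.presheaf.stalk x] N.presheaf.stalk x :=
    e.symm.toLinearMap.comp (LinearMap.inr _ _ _)
  have : Module.Projective (X.presheaf.stalk x) ((cokernel i).presheaf.stalk x) :=
    Module.Projective.of_split inr ((LinearMap.snd _ _ _).comp e.toLinearMap)
      (LinearMap.ext fun c => by simp [inr])
  exact Module.free_of_flat_of_isLocalRing

section HH

open Groth.EulerDeg (hMap)

/-- Cohomology of a module whose identity is a sum of maps through acyclic modules vanishes. -/
theorem subsingleton_of_sum (k : Type u) [CommRing k] [X.Over (Spec (CommRingCat.of k))] {M : X.Modules} {κ : Type} [Fintype κ] (W : κ → X.Modules)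
    (a : ∀ i, M ⟶ W i) (b : ∀ i, W i ⟶ M) (h : ∑ i, a i ≫ b i = 𝟙 M) (j : ℕ)
    (hW : ∀ i, Subsingleton (Coh.HH X (W i) j)) : Subsingleton (Coh.HH X M j) := by
  refine subsingleton_of_forall_eq 0 fun x => ?_
  have h1 := congrArg (fun φ => hMap k φ j x) h
  simp only [Groth.Duality.hMap_sum, Groth.EulerDeg.hMap_id, LinearMap.sum_apply,
    LinearMap.id_apply, Groth.EulerDeg.hMap_comp, LinearMap.comp_apply] at h1
  rw [← h1]
  exact Finset.sum_eq_zero fun i _ =>
    (congrArg (hMap k (b i) j) (Subsingleton.elim (h := hW i) _ 0)).trans (map_zero (hMap k (b i) j))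

end HH

end Groth.RelVan
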