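import Groth.Agent.Inter.Cartier
import Groth.Agent.PicAux.MeroRegular
import Groth.Agent.Divisors.EffCartier

/-!
# A regular equation stays regular: tensoring the powers of a Cartier ideal
-/

set_option autoImplicit false

universe u

open CategoryTheory CategoryTheory.Limits AlgebraicGeometry MonoidalCategory
open Groth.DerivedCoh.KFlat (stk shortExact_iff_stk tensorFlipStkIso)

namespace Groth.RelVan

variable {X : Scheme.{u}}

/-- The sequence of an ideal. -/
noncomputable abbrev idealSeq (D : X.IdealSheafData) : ShortComplex X.Modules :=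
  ShortComplex.mk (ClSub.idealModι D) (ClSub.toSubscheme D) (kernel.condition (ClSub.toSubscheme D))

/-- The equation of a divisor is regular on the stalks of a module if tensoring keeps its ideal
inside the structure sheaf. -/
theorem smul_eq_zero_of_mono {D : X.IdealSheafData} {F : X.Modules}
    (h : Mono ((DCoh.tensorBi.map (ClSub.idealModι D)).app F)) {W : X.affineOpens} {x : X}
    (hxW : x ∈ W.1) {k₀ : Γ(ClSub.idealMod D, W.1)} (hgen : Groth.PicAux.Gen (ClSub.idealMod D) W.1 k₀)
    (m : (stk x).obj F)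
    (hm : (X.presheaf.germ W.1 x hxW (OmegaSh.idealSect D W.1 k₀) : X.presheaf.stalk x) • m = 0) :
    m = 0 := by
  let f := ((idealSeq D).map (stk x)).f
  have h1 : Mono ((stk x).map (((DCoh.tensorBi (X := X)).flip.obj F).map (ClSub.idealModι D))) :=
    (stk x).map_mono ((DCoh.tensorBi.map (ClSub.idealModι D)).app F)
  have hinj : Function.Injective (f.hom.rTensor ((stk x).obj F)) := by
    have e := (tensorFlipStkIso F x).hom.naturality (ClSub.idealModι D)
    have : Mono ((stk x ⋙ tensorRight ((stk x).obj F)).map (ClSub.idealModι D)) := by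
      have e' : (stk x ⋙ tensorRight ((stk x).obj F)).map (ClSub.idealModι D) =
          ((tensorFlipStkIso F x).app _).inv ≫ (stk x).map (((DCoh.tensorBi (X := X)).flip.obj F).map
            (ClSub.idealModι D)) ≫ ((tensorFlipStkIso F x).app _).hom := by
        rw [Iso.eq_inv_comp]
        exact e.symm
      rw [e']
      infer_instance
    exact (ModuleCat.mono_iff_injective _).1 this
  let ε : ((idealSeq D).map (stk x)).X₁ := (ClSub.idealMod D).presheaf.germ W.1 x hxW k₀
  have hsurj : Function.Surjective (LinearMap.toSpanSingleton (X.presheaf.stalk x) _ ε) := fun t => by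
    obtain ⟨V, hxV, s, rfl⟩ := Groth.QCohMod.exists_germ (ClSub.idealMod D) x t
    obtain ⟨c, hc⟩ := hgen.exists_coeff (inf_le_left : W.1 ⊓ V ≤ W.1)
      (Groth.PicAux.res _ inf_le_right s)
    refine ⟨X.presheaf.germ (W.1 ⊓ V) x ⟨hxW, hxV⟩ c, ?_⟩
    rw [← Groth.QCohMod.germ_res (ClSub.idealMod D) (inf_le_right : W.1 ⊓ V ≤ V) x ⟨hxW, hxV⟩ s]
    change (X.presheaf.germ (W.1 ⊓ V) x ⟨hxW, hxV⟩ c : X.presheaf.stalk x) •
      Groth.QCohMod.germ (ClSub.idealMod D) x hxW k₀ = _
    rw [← Groth.QCohMod.germ_res (ClSub.idealMod D) (inf_le_left : W.1 ⊓ V ≤ W.1) x ⟨hxW, hxV⟩ k₀,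
      ← Groth.QCohMod.germ_smul]
    exact congrArg _ hc.symm
  let ι := LinearEquiv.ofBijective (LinearMap.toSpanSingleton (X.presheaf.stalk x) _ ε)
    ⟨(injective_iff_map_eq_zero _).2 fun r hr => Groth.PicAux.germ_smul_eq_zero hgen hxW hr, hsurj⟩
  let u : ((idealSeq D).map (stk x)).X₂ :=
    Groth.QCohMod.germ (Coh.structureModule X) x hxW (Groth.PicAux.oneSec X W.1)
  have hfε : f.hom ε = (X.presheaf.germ W.1 x hxW (OmegaSh.idealSect D W.1 k₀) : X.presheaf.stalk x) • u := by
    change f.hom ε = (X.presheaf.germ W.1 x hxW (OmegaSh.idealSect D W.1 k₀) : X.presheaf.stalk x) •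
      Groth.QCohMod.germ (Coh.structureModule X) x hxW (Groth.PicAux.oneSec X W.1)
    rw [← Groth.QCohMod.germ_smul]
    refine (DerSch.stalkFunctor_map_germ x (ClSub.idealModι D) W.1 hxW k₀).trans ?_
    refine congrArg (Groth.QCohMod.germ (Coh.structureModule X) x hxW) ?_
    exact (mul_one (OmegaSh.idealSect D W.1 k₀)).symm
  have h0 : TensorProduct.tmul (X.presheaf.stalk x) ε m = 0 := hinj (by
    rw [map_zero, LinearMap.rTensor_tmul]
    refine (congrArg (fun q => TensorProduct.tmul (X.presheaf.stalk x) q m) hfε).trans ?_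
    exact (TensorProduct.smul_tmul _ _ m).trans ((congrArg _ hm).trans (TensorProduct.tmul_zero _ _)))
  have h2 := congrArg (fun w => TensorProduct.lid (X.presheaf.stalk x) _ (ι.symm.toLinearMap.rTensor _ w)) h0
  simp only [LinearMap.rTensor_tmul, map_zero, TensorProduct.lid_tmul] at h2
  rw [show ι.symm.toLinearMap ε = 1 from ι.injective (by
    simp only [LinearEquiv.coe_coe, LinearEquiv.apply_symm_apply]
    exact (one_smul (X.presheaf.stalk x) ε).symm), one_smul] at h2
  exact h2

/-- The powers of a Cartier ideal regular on `F`, tensored with `F`. -/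
theorem shortExact_tensor_pow {D : X.IdealSheafData} (hD : BlowUp.IsEffCartierIdeal D) {F : X.Modules}
    (h : Mono ((DCoh.tensorBi.map (ClSub.idealModι D)).app F)) (m : ℕ) :
    ((idealSeq (D ^ (m + 1))).map ((DCoh.tensorBi (X := X)).flip.obj F)).ShortExact := by
  rw [shortExact_iff_stk]
  intro x
  refine ShortComplex.shortExact_of_iso (ShortComplex.mapNatIso _ (tensorFlipStkIso F x)).symm ?_
  let S₀ := (idealSeq (D ^ (m + 1))).map (stk x)
  have hS : S₀.ShortExact := (shortExact_iff_stk _).1 (Groth.PicAux.shortExact_idealMod _) x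
  have he : Function.Exact S₀.f.hom S₀.g.hom :=
    LinearMap.exact_iff.2 (S₀.moduleCat_exact_iff_range_eq_ker.1 hS.exact).symm
  have hs : Function.Surjective S₀.g.hom := (ModuleCat.epi_iff_surjective _).1 hS.epi_g
  obtain ⟨W, hxW, -, k₀, hgen, hnzd, hW⟩ := Groth.PicAux.exists_gen_idealMod hD x ⊤ trivial
  let g := OmegaSh.idealSect D W.1 k₀
  have hWp : (D ^ (m + 1)).ideal W = Ideal.span {g ^ (m + 1)} := by
    rw [Scheme.IdealSheafData.ideal_pow, Pi.pow_apply, hW, Ideal.span_singleton_pow]
  obtain ⟨k₁, hk₁⟩ := Groth.OmegaSheaf.exists_idealSect (D ^ (m + 1)) W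
    (hWp ▸ Ideal.mem_span_singleton_self (g ^ (m + 1)))
  have hnzdp : ∀ j : ℕ, Divisors.IsNzdSec (g ^ (j + 1)) := fun j => by
    induction j with
    | zero => rw [zero_add, pow_one]; exact hnzd
    | succ j ih => rw [pow_succ]; exact ih.mul hnzd
  have hgen₁ := Groth.PicAux.gen_idealMod W (hk₁ ▸ hnzdp m : Divisors.IsNzdSec _) (hk₁ ▸ hWp)
  have hinj : Function.Injective (S₀.f.hom.rTensor ((stk x).obj F)) := by
    rw [← LinearMap.lTensor_inj_iff_rTensor_inj]
    refine Groth.Inter.injective_lTensor_idealModι hgen₁ (hxW := hxW) fun y hy => ?_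
    rw [hk₁] at hy
    have key : ∀ (j : ℕ) (z : (stk x).obj F),
        (X.presheaf.germ W.1 x hxW g : X.presheaf.stalk x) ^ j • z = 0 → z = 0 := fun j => by
      induction j with
      | zero => exact fun z hz => by rwa [pow_zero, one_smul] at hz
      | succ j ih =>
        exact fun z hz => smul_eq_zero_of_mono h hxW hgen z
          (ih _ (by rw [pow_succ, mul_smul] at hz; exact hz))
    exact key (m + 1) y (by rw [← map_pow]; exact hy)
  exact
    { exact := (ShortComplex.moduleCat_exact_iff_range_eq_ker _).2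
        (LinearMap.exact_iff.1 (rTensor_exact ((stk x).obj F) he hs)).symm
      mono_f := (ModuleCat.mono_iff_injective _).2 hinj
      epi_g := (ModuleCat.epi_iff_surjective _).2 (LinearMap.rTensor_surjective ((stk x).obj F) hs) }

end Groth.RelVan
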