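import Groth.Agent.LefAlg.RelVan.Main
import Groth.Agent.LefAlg.RelVan.RegTensor
import Groth.Agent.LefVanish.Ample
import Groth.Agent.LefSections.Basic

/-!
# Cohomology versus its formal completion along an ample divisor, for flat families
-/

set_option autoImplicit false

universe u

open CategoryTheory CategoryTheory.Limits AlgebraicGeometry
open Groth.EulerDeg (hMap)

namespace Groth.RelVan

variable {X : Scheme.{u}}

/-- Eventual vanishing of the kernels compares cohomology with the limit of the quotients. -/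
theorem limit_bijective (A : Type u) [CommRing A] [X.Over (Spec (CommRingCat.of A))]
    (S : ℕ → ShortComplex X.Modules) (hS : ∀ m, (S m).ShortExact) (F : X.Modules)
    (hF : ∀ m, (S m).X₂ = F) (g : ∀ m, F ⟶ (S m).X₃)
    (hg : ∀ m, (S m).g = eqToHom (hF m) ≫ g m) (t : ∀ m, (S (m + 1)).X₃ ⟶ (S m).X₃)
    (ht : ∀ m, g (m + 1) ≫ t m = g m) (n m₀ : ℕ)
    (hv : ∀ m, m₀ ≤ m → ∀ j, j ≤ n → Subsingleton (Coh.HH X (S m).X₁ j)) (i : ℕ) :
    (i ≤ n → ∀ x : Coh.HH X F i, (∀ m, hMap A (g m) i x = 0) → x = 0) ∧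
      (i < n → ∀ y : ∀ m, Coh.HH X (S m).X₃ i, (∀ m, hMap A (t m) i (y (m + 1)) = y m) →
        ∃ x, ∀ m, hMap A (g m) i x = y m) := by
  have inj : i ≤ n → ∀ m, m₀ ≤ m → Function.Injective (hMap A (S m).g i) := fun hi m hm =>
    (injective_iff_map_eq_zero _).2 fun z hz => by
      obtain ⟨w, rfl⟩ := (Groth.EulerDeg.exact_mid A (hS m) i z).1 hz
      exact (congrArg _ (Subsingleton.elim (h := hv m hm i hi) w 0)).trans (map_zero (hMap A (S m).f i))
  have hsplit : ∀ m (z : Coh.HH X (S m).X₂ i),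
      hMap A (S m).g i z = hMap A (g m) i (hMap A (eqToHom (hF m)) i z) := fun m z => by
    rw [hg m, Groth.EulerDeg.hMap_comp]; rfl
  have hid : ∀ m (x : Coh.HH X F i),
      hMap A (eqToHom (hF m)) i (hMap A (eqToHom (hF m).symm) i x) = x := fun m x => by
    rw [← LinearMap.comp_apply, ← Groth.EulerDeg.hMap_comp, eqToHom_trans, eqToHom_refl,
      Groth.EulerDeg.hMap_id, LinearMap.id_apply]
  have inj' : i ≤ n → ∀ m, m₀ ≤ m → Function.Injective (hMap A (g m) i) := fun hi m hm a b e => by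
    have h := inj hi m hm (a₁ := hMap A (eqToHom (hF m).symm) i a)
      (a₂ := hMap A (eqToHom (hF m).symm) i b) (by rw [hsplit, hsplit, hid, hid]; exact e)
    have h' := congrArg (hMap A (eqToHom (hF m)) i) h
    rwa [hid, hid] at h'
  refine ⟨fun hi x hx => inj' hi m₀ le_rfl (by rw [hx m₀, map_zero]), fun hi y hy => ?_⟩
  have surj : ∀ m, m₀ ≤ m → Function.Surjective (hMap A (g m) i) := fun m hm z => by
    obtain ⟨w, hw⟩ := (Groth.EulerDeg.exact_right A (hS m) i z).1
      (Subsingleton.elim (h := hv m hm (i + 1) hi) _ _)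
    exact ⟨_, (hsplit m w).symm.trans hw⟩
  obtain ⟨x, hx⟩ := surj m₀ le_rfl (y m₀)
  have step : ∀ m (z : Coh.HH X F i), hMap A (g (m + 1)) i z = y (m + 1) → hMap A (g m) i z = y m :=
    fun m z e => by rw [← ht m, Groth.EulerDeg.hMap_comp, LinearMap.comp_apply, e, hy m]
  have down : ∀ m d (z : Coh.HH X F i), hMap A (g (m + d)) i z = y (m + d) → hMap A (g m) i z = y m := by
    intro m d
    induction d with
    | zero => exact fun z e => e
    | succ d ih => exact fun z e => ih z (step _ z e)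
  refine ⟨x, fun m => ?_⟩
  rcases Nat.le_total m m₀ with h | h
  · obtain ⟨d, rfl⟩ := Nat.exists_eq_add_of_le h
    exact down m d x hx
  · obtain ⟨z, hz⟩ := surj m h (y m)
    obtain ⟨d, rfl⟩ := Nat.exists_eq_add_of_le h
    rw [inj' hi.le m₀ le_rfl (hx.trans (down m₀ d z hz).symm)]
    exact hz

/-- Comparison with the formal limit for a flat family of depth `> n` on the fibres. -/
theorem formal_limit_bijective {A : Type u} [CommRing A] [IsNoetherianRing A]
    [X.Over (Spec (CommRingCat.of A))] [IsProper (X ↘ Spec (CommRingCat.of A))]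
    (I : X.IdealSheafData) (L : X.Modules) (hL : ClSub.IsInverseOf L (ClSub.idealMod I))
    (hamp : CohB1.IsAmple L) (F : X.Modules) (hF : Coh.IsCoh F)
    (hfl : FlatMod.IsFlatOver (X ↘ Spec (CommRingCat.of A)) F)
    (hreg : Mono ((DCoh.tensorBi.map (ClSub.idealModι I)).app F)) (n : ℕ)
    (hdep : FibDepth (X ↘ Spec (CommRingCat.of A)) n F) (i : ℕ) :
    (i ≤ n → ∀ x : Coh.HH X ((DCoh.tensorBi.obj (Coh.structureModule X)).obj F) i,
      (∀ m : ℕ, hMap A ((DCoh.tensorBi.map (ClSub.toSubscheme (I ^ (m + 1)))).app F) i x = 0) → x = 0) ∧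
    (i < n → ∀ y : (∀ m : ℕ, Coh.HH X ((DCoh.tensorBi.obj (ClSub.quotMod (I ^ (m + 1)))).obj F) i),
      (∀ m : ℕ, hMap A ((DCoh.tensorBi.map (Lef.quotMap (Lef.pow_succ_le I m))).app F) i (y (m + 1)) = y m) →
      ∃ x : Coh.HH X ((DCoh.tensorBi.obj (Coh.structureModule X)).obj F) i,
        ∀ m : ℕ, hMap A ((DCoh.tensorBi.map (ClSub.toSubscheme (I ^ (m + 1)))).app F) i x = y m) := by
  let f := X ↘ Spec (CommRingCat.of A)
  have hinv := Groth.PicAux.isInvertible_of_isInverseOf hamp.1 hL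
  have hD := Groth.PicAux.isEffCartierIdeal_of_isInvertible hinv
  obtain ⟨m₀, hm₀⟩ := exists_forall_subsingleton_HH f hamp hL n F hF hfl hdep
  refine limit_bijective A (fun m => (idealSeq (I ^ (m + 1))).map ((DCoh.tensorBi (X := X)).flip.obj F))
    (fun m => shortExact_tensor_pow hD hreg m) _ (fun _ => rfl)
    (fun m => (DCoh.tensorBi.map (ClSub.toSubscheme (I ^ (m + 1)))).app F)
    (fun m => (Category.id_comp _).symm)
    (fun m => (DCoh.tensorBi.map (Lef.quotMap (Lef.pow_succ_le I m))).app F)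
    (fun m => (((DCoh.tensorBi (X := X)).flip.obj F).map_comp (ClSub.toSubscheme (I ^ (m + 1 + 1)))
      (Lef.quotMap (Lef.pow_succ_le I m))).symm.trans
        (congrArg (fun φ => ((DCoh.tensorBi (X := X)).flip.obj F).map φ)
          (Groth.LefSections.toSub_quotMap (Lef.pow_succ_le I m)))) n m₀
    (fun m hm j hj => ?_) i
  exact (Groth.EulerDeg.hEquiv A (PicGrp.tensorModIso
    (Groth.LefVanish.nonempty_idealMod_pow_succ hD m).some (Iso.refl F)) j).symm.toEquiv.subsingleton_congr.2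
    (hm₀ (m + 1) (by omega) j hj)

end Groth.RelVan
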