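import Groth.Agent.LefAlg.RelVan.Structure
import Groth.Agent.LefVanish.Reduce
import Groth.Agent.Ega4Algebra2.SchemeFibre

/-!
# `Lef(X, Y)` for an ample divisor on a flat family with fibres of depth two
-/

set_option autoImplicit false

universe u

open CategoryTheory CategoryTheory.Limits AlgebraicGeometry
open Groth.CohTwo.LocFreeDual (dual)
open Groth.CohTwo.SheafHomIso (tF)

namespace Groth.RelVan

variable {A : Type u} [CommRing A] [IsNoetherianRing A] {X : Scheme.{u}}
  [X.Over (Spec (CommRingCat.of A))] [IsProper (X ↘ Spec (CommRingCat.of A))]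
  [Flat (X ↘ Spec (CommRingCat.of A))]

omit [IsProper (X ↘ Spec (CommRingCat.of A))] [IsNoetherianRing A] in
/-- A finite locally free module on a flat scheme is flat over the base. -/
theorem isFlatOver_finLocFree {D : X.Modules} (hD : FlatMod.IsFinLocFree D) :
    FlatMod.IsFlatOver (X ↘ Spec (CommRingCat.of A)) (CohB1.tensorMod D (Coh.structureModule X)) :=
  Groth.CohTwo.HomTensor.isFlatOver_tensorMod _ hD (isFlatOver_structure _)

/-- Twists of a finite locally free module by the powers of the ideal are acyclic in low degrees. -/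
theorem exists_subsingleton_tensor_pow (I : X.IdealSheafData) (L : X.Modules)
    (hL : ClSub.IsInverseOf L (ClSub.idealMod I)) (hamp : CohB1.IsAmple L) (n : ℕ)
    (hdep : FibDepth (X ↘ Spec (CommRingCat.of A)) n (Coh.structureModule X)) {D : X.Modules}
    (hD : FlatMod.IsFinLocFree D) :
    ∃ m₀ : ℕ, ∀ m : ℕ, m₀ ≤ m → ∀ j, j ≤ n →
      Subsingleton (Coh.HH X (CohB1.tensorMod D (CohB1.tensorPow (ClSub.idealMod I) m)) j) := by
  have : IsLocallyNoetherian X := LocallyOfFiniteType.isLocallyNoetherian (X ↘ Spec (CommRingCat.of A))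
  have hO := Groth.KTheory.LocFree.isCoh (Groth.LocFree.isFinLocFree_unit X)
  obtain ⟨m₀, hm₀⟩ := exists_forall_subsingleton_HH (X ↘ Spec (CommRingCat.of A)) hamp hL n _
    (Groth.CohTwo.HomTensor.isCoh_tensorMod hD hO) (isFlatOver_finLocFree hD) (hdep.tensor _ hO hD)
  exact ⟨m₀, fun m hm j hj => (Groth.EulerDeg.hEquiv A
    (PicGrp.tensorModIso (Iso.refl _) (SecTwist.unitorR D) ≪≫ (Groth.PicAux.exists_braiding _ _).choose)
    j).symm.toEquiv.subsingleton_congr.2 (hm₀ m hm j hj)⟩

/-- Finite locally free modules satisfy the Lefschetz bijection. -/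
theorem homToFormalBijective_rel (I : X.IdealSheafData) (L : X.Modules)
    (hL : ClSub.IsInverseOf L (ClSub.idealMod I)) (hamp : CohB1.IsAmple L)
    (hdep : FibDepth (X ↘ Spec (CommRingCat.of A)) 1 (Coh.structureModule X))
    (P : X.Modules) (hP : FlatMod.IsFinLocFree P) : Lef.HomToFormalBijective I P := by
  have : IsLocallyNoetherian X := LocallyOfFiniteType.isLocallyNoetherian (X ↘ Spec (CommRingCat.of A))
  have hC := Groth.PicAux.isEffCartierIdeal_of_isInvertible
    (Groth.PicAux.isInvertible_of_isInverseOf hamp.1 hL)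
  obtain ⟨m₀, hm⟩ := exists_subsingleton_tensor_pow I L hL hamp 1 hdep
    (Groth.LocFree.isFinLocFree_homSh hP (Groth.LocFree.isFinLocFree_unit X) :
      FlatMod.IsFinLocFree (dual P))
  refine Groth.LefVanish.homToFormalBijective_of_eventually I P m₀ fun m hmm => ?_
  have hv : ∀ i : ℕ, i ≤ 1 →
      Subsingleton (Coh.HH X ((tF (dual P)).obj (ClSub.idealMod (I ^ (m + 1)))) i) := fun i hi =>
    (Groth.EulerDeg.hEquiv A (PicGrp.tensorModIso (Iso.refl (dual P))
      (Groth.LefVanish.nonempty_idealMod_pow_succ hC m).some) i).symm.toEquiv.subsingleton_congr.2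
      (hm (m + 1) (by omega) i hi)
  exact Groth.LefVanish.bijective_postcomp A hP (Groth.PicAux.shortExact_idealMod (I ^ (m + 1)))
    (hv 0 (by omega)) (hv 1 le_rfl)

/-- Points outside a neighbourhood of an ample divisor are closed in their fibres. -/
theorem isClosed_asFiber_of_notMem (I : X.IdealSheafData) (L : X.Modules)
    (hL : ClSub.IsInverseOf L (ClSub.idealMod I)) (hamp : CohB1.IsAmple L) (U : X.Opens)
    (hU : (I.support : Set X) ⊆ U) (x : X) (hx : x ∉ U) :
    IsClosed ({((X ↘ Spec (CommRingCat.of A))).asFiber x} :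
      Set ↥(((X ↘ Spec (CommRingCat.of A))).fiber (((X ↘ Spec (CommRingCat.of A))).base x))) := by
  let f := X ↘ Spec (CommRingCat.of A)
  have hC := Groth.PicAux.isEffCartierIdeal_of_isInvertible (Groth.PicAux.isInvertible_of_isInverseOf hamp.1 hL)
  obtain ⟨s, hs, -⟩ := Groth.PicAux.exists_section_zeroScheme_eq hC hL
  have haff : IsAffineOpen (CohB1.genLocus L s) := by
    rw [Groth.PropsBasic.Ample.genLocus_eq_gloc]
    exact Groth.PropsBasic.Ample.isAffineOpen_gloc_of_universallyClosed f hamp _
  let k : Type u := (Spec (CommRingCat.of A)).residueField (f x)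
  let : (f.fiber (f x)).Over (Spec (CommRingCat.of k)) := CohIII.fiberOver f (f x)
  have : IsProper (f.fiberToSpecResidueField (f x)) :=
    MorphismProperty.pullback_snd _ _ inferInstance
  have : IsProper ((f.fiber (f x)) ↘ Spec (CommRingCat.of k)) := this
  have : IsAffineHom (f.fiberι (f x)) :=
    MorphismProperty.pullback_fst (P := @IsAffineHom) f _ inferInstance
  refine Groth.VarietyBC.NegTwist.isClosed_singleton_of_closure_le k (haff.preimage (f.fiberι (f x))) _
    fun y hy => ?_
  show f.fiberι (f x) y ∈ CohB1.genLocus L s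
  rw [Groth.PicAux.mem_genLocus_iff_not_mem_support hamp.1, hs]
  intro hy'
  have hsp : (f.asFiber x) ⤳ y := specializes_iff_mem_closure.2 hy
  have := hsp.map (f.fiberι (f x)).continuous
  rw [f.fiberι_asFiber x] at this
  exact hx (this.mem_open U.2 (hU hy'))

/-- For an ample divisor on a flat family with fibres of depth two, `Lef(X, Y)` holds. -/
theorem lefCond_rel (I : X.IdealSheafData) (L : X.Modules)
    (hL : ClSub.IsInverseOf L (ClSub.idealMod I)) (hamp : CohB1.IsAmple L)
    (hd : ∀ x : X, IsClosed ({((X ↘ Spec (CommRingCat.of A))).asFiber x} :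
        Set ↥(((X ↘ Spec (CommRingCat.of A))).fiber (((X ↘ Spec (CommRingCat.of A))).base x))) →
      (2 : ℕ∞) ≤ LocCoh.depth (CInt.fiberStalk (X ↘ Spec (CommRingCat.of A)) x)
        (CInt.fiberStalk (X ↘ Spec (CommRingCat.of A)) x)) :
    Lef.LefCond X I := by
  intro U hU D hD
  let f := X ↘ Spec (CommRingCat.of A)
  have : IsLocallyNoetherian X := LocallyOfFiniteType.isLocallyNoetherian f
  have : CompactSpace X := hamp.2.1
  have : IsNoetherian X := {}
  have hdep : FibDepth f 1 (Coh.structureModule X) := fibDepth_structure_of_asFiber f fun x hx =>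
    lt_of_lt_of_le (by norm_num) (hd x hx)
  have hout : ∀ x : X, x ∉ U → IsClosed ({f.asFiber x} : Set ↥(f.fiber (f x))) :=
    isClosed_asFiber_of_notMem I L hL hamp U hU
  obtain ⟨G, hG, ⟨e⟩⟩ := Groth.Agent.S13987.exists_ext U D (Groth.KTheory.LocFree.isCoh hD)
  refine Groth.LefVanish.homToFormalBijective_of_iso _ e (Groth.LefVanish.homToFormalBijective_restrict U I hU
    (Groth.Pi1Depth.bijective_app_of_two_le_depth U fun x hx => ?_) G
    (Groth.LefVanish.homToFormalBijective_coh hamp I
      (fun P hP => homToFormalBijective_rel I L hL hamp hdep P hP) G hG))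
  rw [Groth.Ega4b.depth_stalk_eq_add f x]
  exact (hd x (hout x hx)).trans le_add_self

end Groth.RelVan
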