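import Groth.Agent.LefAlg.RelVan.Lef
import Groth.Agent.LefAlg.FieldLeff
import Groth.Agent.CohBase.AffinePush
import Groth.Agent.ProjFormula.Natural
import Groth.Agent.LocFree.Tensor

/-!
# `Leff(X, Y)` for flat families
-/

set_option autoImplicit false

universe u

open CategoryTheory CategoryTheory.Limits AlgebraicGeometry
open Groth.PicAux
open Groth.LefAlg (itT Van nonempty_itT_cancel nonempty_itT_pow)

namespace Groth.RelVan

variable {A : Type u} [CommRing A] [IsNoetherianRing A] {X : Scheme.{u}}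
  [X.Over (Spec (CommRingCat.of A))] [IsProper (X ↘ Spec (CommRingCat.of A))]

/-- Depth two of the divisor on the fibres gives the vanishing for algebraisation. -/
theorem van_of_fibre_depth {L K : X.Modules} (hL : CohB1.IsAmple L) (hLK : ClSub.IsInverseOf L K)
    {Z : Scheme.{u}} (i : Z ⟶ X) [IsClosedImmersion i] [Flat (i ≫ (X ↘ Spec (CommRingCat.of A)))]
    (hd : ∀ y : Z, IsClosed ({(i ≫ (X ↘ Spec (CommRingCat.of A))).asFiber y} :
        Set ↥((i ≫ (X ↘ Spec (CommRingCat.of A))).fiber ((i ≫ (X ↘ Spec (CommRingCat.of A))).base y))) →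
      (2 : ℕ∞) ≤ LocCoh.depth (CInt.fiberStalk (i ≫ (X ↘ Spec (CommRingCat.of A))) y)
        (CInt.fiberStalk (i ≫ (X ↘ Spec (CommRingCat.of A))) y))
    {N₀ : Z.Modules} (hN : FlatMod.IsFinLocFree N₀) :
    Van L ((Scheme.Modules.pushforward i).obj N₀) := by
  let f := X ↘ Spec (CommRingCat.of A)
  let _ : Z.Over (Spec (CommRingCat.of A)) := ⟨i ≫ f⟩
  let g := i ≫ f
  have : IsLocallyNoetherian X := LocallyOfFiniteType.isLocallyNoetherian f
  have : IsLocallyNoetherian Z := LocallyOfFiniteType.isLocallyNoetherian i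
  have hdep : FibDepth g 1 (Coh.structureModule Z) := fibDepth_structure_of_asFiber g fun x hx =>
    lt_of_lt_of_le (by norm_num) (hd x hx)
  have hO := Groth.KTheory.LocFree.isCoh (Groth.LocFree.isFinLocFree_unit Z)
  obtain ⟨u₁, -⟩ := exists_pullback_tensorMod i L K
  have := isIso_pullUnit i
  have hi : ClSub.IsInverseOf ((Scheme.Modules.pullback i).obj L) ((Scheme.Modules.pullback i).obj K) :=
    ⟨u₁.symm ≪≫ (Scheme.Modules.pullback i).mapIso hLK.some ≪≫ asIso (pullUnit i)⟩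
  obtain ⟨m₀, hm⟩ := exists_forall_subsingleton_HH g (Groth.Chow.isAmple_pullback_of_isAffineHom i hL) hi 1 _
    (Groth.CohTwo.HomTensor.isCoh_tensorMod hN hO)
    (Groth.CohTwo.HomTensor.isFlatOver_tensorMod g hN (isFlatOver_structure g)) (hdep.tensor g hO hN)
  refine ⟨m₀, fun m hmm N ⟨e⟩ => ?_⟩
  obtain ⟨θ⟩ := nonempty_itT_cancel hLK m
  obtain ⟨p⟩ := nonempty_itT_pow K ((Scheme.Modules.pushforward i).obj N₀) m
  have hK : PicF.IsInvertible K := isInvertible_of_isInverseOf hL.1 hLK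
  have hE := Groth.LefAlg.isFinLocFree_of_isInvertible' (isInvertible_tensorPow hK m)
  have := Groth.KTheory.LocFree.isQCoh hN
  let a : N ≅ (Scheme.Modules.pushforward i).obj
      (CohB1.tensorMod ((Scheme.Modules.pullback i).obj (CohB1.tensorPow K m)) N₀) :=
    ((θ.app N).symm ≪≫ (itT K m).mapIso e ≪≫ p) ≪≫ (exists_braiding _ _).choose ≪≫
      (Groth.ProjFormula.pfIso i (CohB1.tensorPow K m) hE).app N₀
  obtain ⟨b⟩ := pullback_tensorPow i K m
  let c : CohB1.tensorMod ((Scheme.Modules.pullback i).obj (CohB1.tensorPow K m)) N₀ ≅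
      CohB1.tensorMod (CohB1.tensorPow ((Scheme.Modules.pullback i).obj K) m)
        (CohB1.tensorMod N₀ (Coh.structureModule Z)) :=
    PicGrp.tensorModIso b (SecTwist.unitorR N₀).symm
  have h1 : Subsingleton (Coh.HH Z
      (CohB1.tensorMod ((Scheme.Modules.pullback i).obj (CohB1.tensorPow K m)) N₀) 1) :=
    (Groth.EulerDeg.hEquiv A c 1).toEquiv.subsingleton_congr.2 (hm m hmm 1 le_rfl)
  have hq := Groth.KTheory.LocFree.isQCoh (Groth.LocFree.isFinLocFree_tensorMod
    (Groth.LocFree.isFinLocFree_pullback i hE) hN)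
  obtain ⟨h⟩ := Groth.CohBase.nonempty_equiv_H_push i
    (CohB1.tensorMod ((Scheme.Modules.pullback i).obj (CohB1.tensorPow K m)) N₀) 1
  have h2 : Subsingleton (Coh.HH X ((Scheme.Modules.pushforward i).obj
      (CohB1.tensorMod ((Scheme.Modules.pullback i).obj (CohB1.tensorPow K m)) N₀)) 1) :=
    h.toEquiv.subsingleton_congr.2 h1
  exact (Groth.EulerDeg.hEquiv A a 1).toEquiv.subsingleton_congr.2 h2

/-- `Leff` for an ample divisor flat over the base with fibres of depth two. -/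
theorem leffCond_rel [Flat (X ↘ Spec (CommRingCat.of A))] (I : X.IdealSheafData) (L : X.Modules)
    (hL : ClSub.IsInverseOf L (ClSub.idealMod I)) (hamp : CohB1.IsAmple L)
    [Flat (I.subschemeι ≫ (X ↘ Spec (CommRingCat.of A)))]
    (hd0 : ∀ y : ↥(I.subscheme), IsClosed ({((I.subschemeι ≫ (X ↘ Spec (CommRingCat.of A)))).asFiber y} :
        Set ↥(((I.subschemeι ≫ (X ↘ Spec (CommRingCat.of A)))).fiber (((I.subschemeι ≫ (X ↘ Spec (CommRingCat.of A)))).base y))) →
      (2 : ℕ∞) ≤ LocCoh.depth ↑(CInt.fiberStalk (I.subschemeι ≫ (X ↘ Spec (CommRingCat.of A))) y)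
        ↑(CInt.fiberStalk (I.subschemeι ≫ (X ↘ Spec (CommRingCat.of A))) y))
    (hd : ∀ x : X, IsClosed ({((X ↘ Spec (CommRingCat.of A))).asFiber x} :
        Set ↥(((X ↘ Spec (CommRingCat.of A))).fiber (((X ↘ Spec (CommRingCat.of A))).base x))) →
      (2 : ℕ∞) ≤ LocCoh.depth (CInt.fiberStalk (X ↘ Spec (CommRingCat.of A)) x)
        (CInt.fiberStalk (X ↘ Spec (CommRingCat.of A)) x)) :
    LefX.LeffCond X I := by
  have hC : BlowUp.IsEffCartierIdeal I :=
    isEffCartierIdeal_of_isInvertible (isInvertible_of_isInverseOf hamp.1 hL)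
  have hdep : FibDepth (X ↘ Spec (CommRingCat.of A)) 1 (Coh.structureModule X) :=
    fibDepth_structure_of_asFiber _ fun x hx => lt_of_lt_of_le (by norm_num) (hd x hx)
  refine ⟨lefCond_rel I L hL hamp hd, fun 𝔐 h𝔐 => Groth.LefAlg.exists_algebraisation A I hC hL hamp
    (fun D hD => homToFormalBijective_rel I L hL hamp hdep D hD) ?_ 𝔐 h𝔐⟩
  have key : ∀ J : X.IdealSheafData, J = I → ∀ N₀ : J.subscheme.Modules, FlatMod.IsFinLocFree N₀ →
      Van L ((Scheme.Modules.pushforward J.subschemeι).obj N₀) := by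
    intro J hJ
    subst hJ
    exact fun N₀ hN₀ => van_of_fibre_depth hamp hL J.subschemeι hd0 hN₀
  exact key (I ^ (0 + 1)) (by rw [zero_add, pow_one])

end Groth.RelVan
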