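import Groth.Agent.LefAlg.RelVan.Step
import Groth.Agent.CohBase.FibreConsequencesFP
import Groth.Agent.Quot.FibreGen
import Groth.Agent.Chow.VeryAmplePn
import Groth.Agent.SpectralTopology.ConsModLocus
import Groth.Agent.CohTwo.HomTensorCorep
import Groth.Agent.FlatStrata.FlatModel
import Groth.Agent.AbvarAmple.FibreAcyclic
import Groth.Prelude.Def_CInt

/-!
# Uniform vanishing of negative ample twists on flat families
-/

set_option autoImplicit false

universe u

open CategoryTheory CategoryTheory.Limits AlgebraicGeometry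
open Groth.PicAux

noncomputable section

namespace Groth.RelVan

section General

variable {X S : Scheme.{u}} (f : X ⟶ S) [IsProper f] [IsLocallyNoetherian S]

/-- Depth `> n` of the restrictions to the fibres at their closed points. -/
def FibDepth (n : ℕ) (F : X.Modules) : Prop :=
  ∀ (s : S) (z : f.fiber s), IsClosed ({z} : Set (f.fiber s)) →
    (n : ℕ∞) < LocCoh.depth ((f.fiber s).presheaf.stalk z) ((CohIII.fiberMod f F s).presheaf.stalk z)

omit [IsProper f] [IsLocallyNoetherian S] in
/-- The condition at the points closed in their fibres. -/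
theorem fibDepth_of_asFiber {n : ℕ} {F : X.Modules}
    (h : ∀ x : X, IsClosed ({f.asFiber x} : Set (f.fiber (f x))) →
      (n : ℕ∞) < LocCoh.depth ((f.fiber (f x)).presheaf.stalk (f.asFiber x))
        ((CohIII.fiberMod f F (f x)).presheaf.stalk (f.asFiber x))) : FibDepth f n F := by
  intro s z hz
  obtain ⟨x, rfl⟩ : ∃ x, x = f.fiberι s z := ⟨_, rfl⟩
  have hs : f (f.fiberι s z) = s := by
    have : f.fiberι s z ∈ f ⁻¹' {s} := f.range_fiberι s ▸ ⟨z, rfl⟩
    exact this
  obtain ⟨x, hx⟩ : ∃ x, x = f.fiberι s z := ⟨_, rfl⟩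
  rw [← hx] at hs
  subst hs
  obtain rfl : z = f.asFiber x :=
    (f.fiberι (f x)).isEmbedding.injective (hx.symm.trans (f.fiberι_asFiber x).symm)
  exact h x hz

/-- The condition survives tensoring with finite locally free modules. -/
theorem FibDepth.tensor {n : ℕ} {F : X.Modules} (h : FibDepth f n F) (hF : Coh.IsCoh F)
    {D : X.Modules} (hD : FlatMod.IsFinLocFree D) : FibDepth f n (CohB1.tensorMod D F) := by
  intro s z hz
  have : IsLocallyNoetherian (f.fiber s) :=
    LocallyOfFiniteType.isLocallyNoetherian (f.fiberToSpecResidueField s)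
  have hD' := Groth.LocFree.isFinLocFree_pullback (f.fiberι s) hD
  have hF' : Coh.IsCoh (CohIII.fiberMod f F s) :=
    Groth.SpectralTopology.ConsModLocus.isCoh_pullback_obj (f.fiberι s) hF
  have := hF'.1
  have := Groth.QCohMod.finite_stalk (CohIII.fiberMod f F s) hF'.2 z
  have := Groth.KTheory.LocFree.free_stalk hD' z
  have := Groth.LocFree.finite_stalk hD' z
  let e := (exists_pullback_tensorMod (f.fiberι s) D F).choose
  let u := ((Groth.QCohMod.stalkTensorEquiv ((Scheme.Modules.pullback (f.fiberι s)).obj D)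
    (CohIII.fiberMod f F s) z).trans
      (((DerSch.stalkFunctor (f.fiber s) z).mapIso e).toLinearEquiv.symm))
  have h1 := le_depth_tensor_free ((CohIII.fiberMod f F s).presheaf.stalk z)
    (((Scheme.Modules.pullback (f.fiberι s)).obj D).presheaf.stalk z)
    (ENat.add_one_le_iff (ENat.natCast_ne_top n) |>.2 (h s z hz))
  rw [← ENat.add_one_le_iff (ENat.natCast_ne_top n)]
  exact h1.trans (Groth.LocCohBase.idealDepth_congr u).le

end General

variable {A : Type u} [CommRing A] [IsNoetherianRing A] {X : Scheme.{u}}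
  (f : X ⟶ Spec (CommRingCat.of A)) [IsProper f] {L L' : X.Modules}

/-- Negative ample twists have no fibrewise cohomology in degrees `≤ n`, uniformly in the fibre. -/
theorem exists_forall_subsingleton_fiberH (hL : CohB1.IsAmple L) (hL' : ClSub.IsInverseOf L L')
    (n : ℕ) : ∀ (j : ℕ), j ≤ n → ∀ F : X.Modules, Coh.IsCoh F → FlatMod.IsFlatOver f F →
      FibDepth f n F → ∃ m₀ : ℕ, ∀ m : ℕ, m₀ ≤ m → ∀ s : ↥(Spec (CommRingCat.of A)),
        Subsingleton (CohIII.fiberH f (CohB1.tensorMod (CohB1.tensorPow L' m) F) s j) := by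
  obtain ⟨r, N, jj, hN, hjj, hjf, ⟨e⟩⟩ := Groth.PnCoh.exists_closedImmersion_of_isAmple f hL
  have := Groth.PnCoh.isLocallyNoetherian_projSpace r A
  have : IsLocallyNoetherian X := LocallyOfFiniteType.isLocallyNoetherian f
  have hinj : HasInjectiveResolutions X.Modules := inferInstance
  have hL'inv : PicF.IsInvertible L' := isInvertible_of_isInverseOf hL.1 hL'
  have hlf : ∀ a : ℕ, FlatMod.IsFinLocFree (CohB1.tensorPow L' a) := fun a =>
    Groth.LefAlg.isFinLocFree_of_isInvertible' (isInvertible_tensorPow hL'inv a)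
  -- `L'^N` is the pullback of `O(-1)`
  obtain ⟨eN⟩ : Nonempty (CohB1.tensorPow L' N ≅
      (Scheme.Modules.pullback jj).obj (Twist.twistProjSpace r A (-1))) := by
    obtain ⟨u₀⟩ := Groth.Duality.Pn.isInverseOf_twist r A 1
    obtain ⟨u₁, -⟩ := exists_pullback_tensorMod jj (Twist.twistProjSpace r A 1)
      (Twist.twistProjSpace r A (-1))
    have := isIso_pullUnit jj
    exact isInverseOf_unique (isInverseOf_tensorPow hL' N)
      ⟨PicGrp.tensorModIso e (Iso.refl _) ≪≫ u₁.symm ≪≫ (Scheme.Modules.pullback jj).mapIso u₀ ≪≫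
        asIso (pullUnit jj)⟩
  let Qb : X.Modules := (Scheme.Modules.pullback jj).obj (tq r A)
  have hQb : FlatMod.IsFinLocFree Qb :=
    Groth.LocFree.isFinLocFree_pullback jj (shortExact_coords r A).2
  intro j
  induction j using Nat.strong_induction_on with
  | _ j ih =>
  intro hjn F hF hfl hdep
  let M : ℕ → X.Modules := fun m => CohB1.tensorMod (CohB1.tensorPow L' m) F
  have hMc : ∀ m, Coh.IsCoh (M m) := fun m => Groth.CohTwo.HomTensor.isCoh_tensorMod (hlf m) hF
  have hMf : ∀ m, FlatMod.IsFlatOver f (M m) := fun m =>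
    Groth.CohTwo.HomTensor.isFlatOver_tensorMod f (hlf m) hfl
  -- the previous degree for `F ⊗ Q`
  obtain ⟨m₁, hm₁⟩ : ∃ m₁, ∀ m, m₁ ≤ m → ∀ s, ∀ i, i + 1 = j → Subsingleton
      (CohIII.fiberH f (CohB1.tensorMod (CohB1.tensorPow L' m) (CohB1.tensorMod Qb F)) s i) := by
    rcases j with _ | i
    · exact ⟨0, fun _ _ _ i hi => (Nat.succ_ne_zero i hi).elim⟩
    · obtain ⟨m₁, h⟩ := ih i (Nat.lt_succ_self i) (by omega) (CohB1.tensorMod Qb F)
        (Groth.CohTwo.HomTensor.isCoh_tensorMod hQb hF) (Groth.CohTwo.HomTensor.isFlatOver_tensorMod f hQb hfl)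
        (hdep.tensor f hF hQb)
      exact ⟨m₁, fun m hm s i' hi' => by cases (Nat.succ.inj hi'); exact h m hm s⟩
  -- vanishing propagates by steps of `N`
  have hstep : ∀ m, m₁ ≤ m → ∀ s, Subsingleton (CohIII.fiberH f (M m) s j) →
      Subsingleton (CohIII.fiberH f (M (m + N)) s j) := by
    intro m hm s hv
    let k : Type u := (Spec (CommRingCat.of A)).residueField s
    let : (f.fiber s).Over (Spec (CommRingCat.of k)) := CohIII.fiberOver f s
    let g := f.fiberι s
    obtain ⟨a₀⟩ := tensorPow_add L' m N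
    let a₁ := a₀.symm
    obtain ⟨a₂⟩ : Nonempty (M (m + N) ≅
        CohB1.tensorMod (M m) ((Scheme.Modules.pullback jj).obj (Twist.twistProjSpace r A (-1)))) :=
      ⟨PicGrp.tensorModIso (a₁.symm ≪≫ PicGrp.tensorModIso (Iso.refl _) eN) (Iso.refl F) ≪≫
        (exists_associator _ _ _).choose ≪≫
        PicGrp.tensorModIso (Iso.refl _) (exists_braiding _ _).choose ≪≫
        (exists_associator _ _ _).choose.symm⟩
    have a₃ : (Scheme.Modules.pullback g).obj (M (m + N)) ≅ CohB1.tensorMod (CohIII.fiberMod f (M m) s)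
        ((Scheme.Modules.pullback (g ≫ jj)).obj (Twist.twistProjSpace r A (-1))) :=
      (Scheme.Modules.pullback g).mapIso a₂ ≪≫ (exists_pullback_tensorMod g _ _).choose ≪≫
        PicGrp.tensorModIso (Iso.refl _) ((Scheme.Modules.pullbackComp g jj).app _)
    have a₄ : (Scheme.Modules.pullback g).obj
        (CohB1.tensorMod (CohB1.tensorPow L' m) (CohB1.tensorMod Qb F)) ≅
        CohB1.tensorMod (CohIII.fiberMod f (M m) s)
          ((Scheme.Modules.pullback (g ≫ jj)).obj (tq r A)) :=
      (Scheme.Modules.pullback g).mapIso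
        (PicGrp.tensorModIso (Iso.refl _) (exists_braiding _ _).choose ≪≫
          (exists_associator _ _ _).choose.symm) ≪≫ (exists_pullback_tensorMod g _ _).choose ≪≫
        PicGrp.tensorModIso (Iso.refl _) ((Scheme.Modules.pullbackComp g jj).app _)
    have := subsingleton_step (k := k) (g ≫ jj)
      (CohIII.fiberMod f (M m) s) j hv fun i hi =>
        (Groth.EulerDeg.hEquiv k a₄ i).symm.toEquiv.subsingleton_congr.2
          (hm₁ m hm s i hi)
    exact (Groth.EulerDeg.hEquiv k a₃ j).toEquiv.subsingleton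
  -- each fibre is eventually acyclic
  have hpt : ∀ s, ∃ m₂ : ℕ, ∀ m, m₂ ≤ m → Subsingleton (CohIII.fiberH f (M m) s j) := by
    intro s
    let k : Type u := (Spec (CommRingCat.of A)).residueField s
    let : (f.fiber s).Over (Spec (CommRingCat.of k)) := CohIII.fiberOver f s
    let g := f.fiberι s
    have : IsProper (f.fiberToSpecResidueField s) :=
      MorphismProperty.pullback_snd _ _ inferInstance
    obtain ⟨u₁, -⟩ := exists_pullback_tensorMod g L L'
    have := isIso_pullUnit g
    have hg' : ClSub.IsInverseOf ((Scheme.Modules.pullback g).obj L) ((Scheme.Modules.pullback g).obj L') :=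
      ⟨u₁.symm ≪≫ (Scheme.Modules.pullback g).mapIso hL'.some ≪≫ asIso (pullUnit g)⟩
    have : IsAffineHom g :=
      MorphismProperty.pullback_fst (P := @IsAffineHom) f _ inferInstance
    obtain ⟨m₂, hm₂⟩ := Groth.LefVanish.exists_subsingleton_negPow
      k (f.fiberToSpecResidueField s)
      (Groth.Chow.isAmple_pullback_of_isAffineHom g hL) hg' (CohIII.fiberMod f F s)
      (Groth.SpectralTopology.ConsModLocus.isCoh_pullback_obj g hF) (n + 1) fun z hz => by
        rw [Nat.cast_add, Nat.cast_one]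
        exact (ENat.add_one_le_iff (ENat.natCast_ne_top n)).2 (hdep s z hz)
    refine ⟨m₂, fun m hm => ?_⟩
    obtain ⟨b₁⟩ := pullback_tensorPow g L' m
    have b₂ : CohIII.fiberMod f (M m) s ≅ CohB1.tensorMod (CohIII.fiberMod f F s)
        (CohB1.tensorPow ((Scheme.Modules.pullback g).obj L') m) :=
      (exists_pullback_tensorMod g _ _).choose ≪≫ (exists_braiding _ _).choose ≪≫
        PicGrp.tensorModIso (Iso.refl _) b₁
    have := hm₂ m hm j (by omega)
    exact (Groth.EulerDeg.hEquiv k b₂ j).toEquiv.subsingleton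
  -- the acyclic loci exhaust the base
  let O : ℕ → (Spec (CommRingCat.of A)).Opens := fun T =>
    (Finset.range N).inf fun a => ⟨{s | Subsingleton (CohIII.fiberH f (M (m₁ + T + a)) s j)},
      have := (hMc (m₁ + T + a)).1
      Groth.CohBase.isOpen_subsingleton_fiberH f
        (Groth.FlatStrata.isFP_of_isCoh (hMc (m₁ + T + a))) (hMf _) j⟩
  have hO : ∀ T s, s ∈ O T → ∀ m, m₁ + T ≤ m → Subsingleton (CohIII.fiberH f (M m) s j) := by
    intro T s hs m
    induction m using Nat.strong_induction_on with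
    | _ m ihm =>
    intro hm
    by_cases h : m < m₁ + T + N
    · have h1 := Finset.inf_le (f := fun a => (⟨{s | Subsingleton (CohIII.fiberH f (M (m₁ + T + a)) s j)}, _⟩ :
        (Spec (CommRingCat.of A)).Opens)) (Finset.mem_range.2 (show m - (m₁ + T) < N by omega)) hs
      rwa [show m = m₁ + T + (m - (m₁ + T)) by omega]
    · have := hstep (m - N) (by omega) s (ihm (m - N) (by omega) (by omega))
      rwa [Nat.sub_add_cancel (by omega)] at this
  have hmem : ∀ T s, (∀ m, m₁ + T ≤ m → Subsingleton (CohIII.fiberH f (M m) s j)) → s ∈ O T := by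
    intro T s h
    simp only [O]
    induction Finset.range N using Finset.cons_induction with
    | empty => exact trivial
    | cons a t ha iht => rw [Finset.inf_cons]; exact ⟨h _ (by omega), iht⟩
  obtain ⟨T, hT⟩ := isCompact_univ.elim_directed_cover (fun T => (O T : Set (Spec (CommRingCat.of A))))
    (fun T => (O T).2) (fun s _ => by
      obtain ⟨m₂, hm₂⟩ := hpt s
      exact Set.mem_iUnion.2 ⟨m₂, hmem m₂ s fun m hm => hm₂ m (by omega)⟩)
    (directed_of_isDirected_le fun T T' hTT' s hs => hmem T' s fun m hm =>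
      hO T s hs m (by omega))
  exact ⟨m₁ + T, fun m hm s => hO T s (hT (Set.mem_univ s)) m hm⟩

/-- Negative ample twists of a flat family of depth `> n` have no cohomology in degrees `≤ n`. -/
theorem exists_forall_subsingleton_HH (hL : CohB1.IsAmple L) (hL' : ClSub.IsInverseOf L L')
    (n : ℕ) (F : X.Modules) (hF : Coh.IsCoh F) (hfl : FlatMod.IsFlatOver f F) (hdep : FibDepth f n F) :
    ∃ m₀ : ℕ, ∀ m : ℕ, m₀ ≤ m → ∀ j : ℕ, j ≤ n →
      Subsingleton (Coh.HH X (CohB1.tensorMod (CohB1.tensorPow L' m) F) j) := by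
  have h := exists_forall_subsingleton_fiberH f hL hL' n
  choose m₀ hm₀ using fun j : Fin (n + 1) => h j (Nat.lt_succ_iff.1 j.2) F hF hfl hdep
  have : IsLocallyNoetherian X := LocallyOfFiniteType.isLocallyNoetherian f
  have hL'inv : PicF.IsInvertible L' := isInvertible_of_isInverseOf hL.1 hL'
  refine ⟨Finset.univ.sup m₀, fun m hm j hj => ?_⟩
  let G := CohB1.tensorMod (CohB1.tensorPow L' m) F
  have hl := Groth.LefAlg.isFinLocFree_of_isInvertible' (isInvertible_tensorPow hL'inv m)
  have hp := hm₀ ⟨j, Nat.lt_succ_iff.2 hj⟩ m ((Finset.le_sup (Finset.mem_univ _)).trans hm)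
  have hc := Groth.CohTwo.HomTensor.isCoh_tensorMod hl hF
  have := hc.1
  obtain ⟨Lc, hLc⟩ := Groth.CohBase.exists_isModel f G (isAffineOpen_top _) hc
    (Groth.CohTwo.HomTensor.isFlatOver_tensorMod f hl hfl)
  obtain ⟨e⟩ := hLc.sections j
  have := hLc.subsingleton_Hk (isAffineOpen_top _) j fun s _ => hp s
  have h1 : Subsingleton Γ((Coh.Rpush f j).obj G, ⊤) := e.toEquiv.subsingleton
  obtain ⟨a⟩ := Groth.CohBase.nonempty_toAb_Rpush_iso f (M := G) j
  obtain ⟨b⟩ := Groth.CohBase.nonempty_RpushAb_sections f (M := G) j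
    (isAffineOpen_top (Spec (CommRingCat.of A)))
  let c := ((sheafToPresheaf _ _ ⋙ (evaluation _ _).obj (Opposite.op ⊤)).mapIso a).addCommGroupIsoToAddEquiv
  have h2 := @Equiv.subsingleton _ _ (c.trans b).symm.toEquiv h1
  exact @Equiv.subsingleton _ _ (Groth.CohBase.equivHTop (Groth.CohBase.abSheaf G) j).toEquiv h2

end Groth.RelVan
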