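import Groth.Agent.LefAlg.RelVan.Basic
import Groth.Agent.PnEuler.Seq
import Groth.Agent.KTheory.KvbPull
import Groth.Agent.DerivedCoh.PCoh.TensorPerfect
import Groth.Agent.PnCoh.AmpleVanishing
import Groth.Agent.LefAlg.Twist

/-!
# `H^j(T(-1))` injects into `H^j(T)^{n+1}` modulo `H^{j-1}(T ⊗ Q)`
-/

set_option autoImplicit false

universe u

open CategoryTheory CategoryTheory.Limits AlgebraicGeometry
open Groth.PnEuler
open Groth.KTheory.LocFree (stalkₗ)

noncomputable section

attribute [local instance] HasFiniteBiproducts.of_hasFiniteProducts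

namespace Groth.RelVan

variable (n : ℕ) (R : Type u) [CommRing R]

/-- The module `O^{n+1}`. -/
abbrev mid₀ : (CohB1.ProjSpace n R).Modules :=
  ⨁ fun _ : Fin (n + 1) => Twist.twistProjSpace n R 0

/-- The map `O(-1) → O^{n+1}` by the coordinates. -/
def coords : Twist.twistProjSpace n R (-1) ⟶ mid₀ n R :=
  biproduct.lift fun i => mulX i

variable [IsNoetherianRing R]

/-- The dual Euler sequence `0 → O(-1) → O^{n+1} → Q → 0`. -/
theorem shortExact_coords :
    (ShortComplex.mk (coords n R) (cokernel.π (coords n R))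
      (cokernel.condition (coords n R))).ShortExact ∧ FlatMod.IsFinLocFree (cokernel (coords n R)) := by
  have := Groth.PnCoh.isLocallyNoetherian_projSpace n R
  have hinv : ∀ d : ℤ, FlatMod.IsFinLocFree (Twist.twistProjSpace n R d) := fun d =>
    Groth.LefAlg.isFinLocFree_of_isInvertible'
      (Groth.PnCoh.isInvertible_twist n R d)
  have hmid : FlatMod.IsFinLocFree (mid₀ n R) :=
    Groth.KTheory.LocFree.isFinLocFree_of_iso (biproduct.isoCoproduct _).symm
      (Groth.DerivedCoh.PCoh.isFinLocFree_sigma_finite _ _ fun _ => hinv 0)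
  refine isFinLocFree_cokernel_of_retraction _ (hinv (-1)) hmid fun x => ?_
  obtain ⟨j, hj⟩ : ∃ j, x ∈ dOp (R := R) j :=
    TopologicalSpace.Opens.mem_iSup.1 ((iSup_dOp (n := n) (R := R)).ge (TopologicalSpace.Opens.mem_top x))
  let A := (CohB1.ProjSpace n R).presheaf.stalk x
  let f : (Twist.twistProjSpace n R (-1)).presheaf.stalk x →ₗ[A]
      (Twist.twistProjSpace n R 0).presheaf.stalk x := stalkₗ (mulX j) x
  have hsurj : Function.Surjective f := fun t => by
    obtain ⟨V, hxV, s, rfl⟩ := Groth.QCohMod.exists_germ _ x t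
    obtain ⟨r, hr⟩ := (gen_ee (dOp (R := R) j)).exists_coeff (V := V ⊓ dOp j) inf_le_right
      (Groth.PicAux.res (Twist.twistProjSpace n R 0) inf_le_left s)
    refine ⟨Groth.QCohMod.germ _ (U := V ⊓ dOp (R := R) j) x ⟨hxV, hj⟩
      (r • Groth.PicAux.res _ inf_le_right (gg j)), ?_⟩
    change (Groth.QCohMod.stalk x).map (mulX j) _ = _
    rw [Groth.QCohMod.stalk_map_germ, Scheme.Modules.Hom.app_smul, Groth.PicAux.app_res, mulX_gg,
      tt_self, one_smul, ← Groth.QCohMod.germ_res _ inf_le_left x ⟨hxV, hj⟩ s]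
    exact congrArg _ hr.symm
  obtain ⟨⟨e₁⟩⟩ : Nonempty (Nonempty ((Twist.twistProjSpace n R (-1)).presheaf.stalk x ≃ₗ[A] A)) :=
    ⟨⟨(Groth.Inter.exists_stalk_equiv (Groth.PnCoh.isInvertible_twist n R (-1)) x).some.symm⟩⟩
  let e₀ := (Groth.Inter.exists_stalk_equiv (Groth.PnCoh.isInvertible_twist n R 0) x).some
  have hbij : Function.Bijective f := by
    let g : A →ₗ[A] A := e₀.symm.toLinearMap.comp (f.comp e₁.symm.toLinearMap)
    have hg : Function.Surjective g := e₀.symm.surjective.comp (hsurj.comp e₁.symm.surjective)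
    have hginj : Function.Injective g := OrzechProperty.injective_of_surjective_endomorphism g hg
    refine ⟨fun a b hab => e₁.injective (hginj ?_), hsurj⟩
    simp only [g, LinearMap.comp_apply, LinearEquiv.coe_coe, LinearEquiv.symm_apply_apply, hab]
  let π := biproduct.π (fun _ : Fin (n + 1) => Twist.twistProjSpace n R 0) j
  refine ⟨(LinearEquiv.ofBijective f hbij).symm.toLinearMap.comp (stalkₗ π x), LinearMap.ext fun a => ?_⟩
  refine (LinearEquiv.ofBijective f hbij).injective ?_
  simp only [LinearMap.comp_apply, LinearEquiv.coe_coe, LinearEquiv.apply_symm_apply,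
    LinearMap.id_apply, LinearEquiv.ofBijective_apply]
  have h : (Groth.QCohMod.stalk x).map (coords n R) ≫ (Groth.QCohMod.stalk x).map π =
      (Groth.QCohMod.stalk x).map (mulX j) :=
    ((Groth.QCohMod.stalk x).map_comp _ _).symm.trans
      (congrArg (Groth.QCohMod.stalk x).map (biproduct.lift_π _ j))
  exact congr($h a)

/-- The bundle `Q`. -/
abbrev tq : (CohB1.ProjSpace n R).Modules := cokernel (coords n R)

variable {n R}

/-- If `H^j(T) = 0` and `H^{j-1}(T ⊗ Q) = 0` then `H^j(T(-1)) = 0`. -/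
theorem subsingleton_step {k : Type u} [CommRing k] {Y : Scheme.{u}}
    [Y.Over (Spec (CommRingCat.of k))] (y : Y ⟶ CohB1.ProjSpace n R) (T : Y.Modules) (j : ℕ)
    (hT : Subsingleton (Coh.HH Y T j))
    (hQ : ∀ i, i + 1 = j →
      Subsingleton (Coh.HH Y (CohB1.tensorMod T ((Scheme.Modules.pullback y).obj (tq n R))) i)) :
    Subsingleton (Coh.HH Y
      (CohB1.tensorMod T ((Scheme.Modules.pullback y).obj (Twist.twistProjSpace n R (-1)))) j) := by
  have := Groth.PnCoh.isLocallyNoetherian_projSpace n R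
  obtain ⟨hS, hQf⟩ := shortExact_coords n R
  have hinv : ∀ d : ℤ, FlatMod.IsFinLocFree (Twist.twistProjSpace n R d) := fun d =>
    Groth.LefAlg.isFinLocFree_of_isInvertible' (Groth.PnCoh.isInvertible_twist n R d)
  have hmid : FlatMod.IsFinLocFree (mid₀ n R) :=
    Groth.KTheory.LocFree.isFinLocFree_of_iso (biproduct.isoCoproduct _).symm
      (Groth.DerivedCoh.PCoh.isFinLocFree_sigma_finite _ _ fun _ => hinv 0)
  have hSy := Groth.KTheory.KvbPull.shortExact_pullback y hS (hinv (-1)) hmid hQf
  have hT' := shortExact_tensor_any hSy (Groth.LocFree.isFinLocFree_pullback y hQf) T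
  let G := Scheme.Modules.pullback y ⋙ (DCoh.tensorBi (X := Y)).obj T
  have : (Scheme.Modules.pullback y).Additive :=
    (Scheme.Modules.pullbackPushforwardAdjunction y).left_adjoint_additive
  have : ((DCoh.tensorBi (X := Y)).obj T).Additive := Groth.ProjFormula.additive_tF T
  have h0 : Subsingleton (Coh.HH Y (G.obj (Twist.twistProjSpace n R 0)) j) := by
    obtain ⟨e⟩ := Groth.Duality.Pn.nonempty_twist_zero_iso' n R
    have := Groth.PicAux.isIso_pullUnit y
    exact (Groth.EulerDeg.hEquiv k (PicGrp.tensorModIso (Iso.refl T)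
      ((Scheme.Modules.pullback y).mapIso e ≪≫ asIso (Groth.PicAux.pullUnit y)) ≪≫
      SecTwist.unitorR T) j).toEquiv.subsingleton
  let F0 := fun _ : Fin (n + 1) => Twist.twistProjSpace n R 0
  have hM : Subsingleton (Coh.HH Y (G.obj (mid₀ n R)) j) :=
    subsingleton_of_sum k (fun i : Fin (n + 1) => G.obj (F0 i)) (fun i => G.map (biproduct.π F0 i))
      (fun i => G.map (biproduct.ι F0 i))
      (by simp only [← G.map_comp, ← G.map_sum]; rw [biproduct.total]; exact G.map_id _) j fun _ => h0
  refine subsingleton_of_forall_eq 0 fun x => ?_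
  have hx : Groth.EulerDeg.hMap k (((ShortComplex.mk (coords n R) (cokernel.π (coords n R))
      (cokernel.condition (coords n R))).map (Scheme.Modules.pullback y)).map
        ((DCoh.tensorBi (X := Y)).obj T)).f j x = 0 := Subsingleton.elim (h := hM) _ _
  cases j with
  | zero => exact Groth.EulerDeg.injective_zero k hT' (hx.trans (map_zero _).symm)
  | succ i =>
    obtain ⟨w, hw⟩ := (Groth.EulerDeg.exact_left k hT' i x).1 hx
    rw [← hw]
    exact (congrArg _ (Subsingleton.elim (h := hQ i rfl) w 0)).trans (map_zero (Groth.EulerDeg.hDelta k hT' i))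

end Groth.RelVan
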