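import Groth.Agent.LefAlg.RelVan.Formal
import Groth.Agent.LefAlg.FieldVan
import Groth.Agent.CohBase.InvNearFibre

/-!
# The case of the structure sheaf
-/

set_option autoImplicit false

universe u

open CategoryTheory CategoryTheory.Limits AlgebraicGeometry
open Groth.EulerDeg (hMap)

namespace Groth.RelVan

variable {X : Scheme.{u}}

theorem isFlatOver_structure {S : Scheme.{u}} (f : X ⟶ S) [Flat f] :
    FlatMod.IsFlatOver f (Coh.structureModule X) := fun x => by
  let := (f.stalkMap x).hom.toAlgebra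
  let := FlatMod.moduleStalkOver f (Coh.structureModule X) x
  have : Module.Flat (S.presheaf.stalk (f x)) (X.presheaf.stalk x) := Flat.stalkMap f x
  exact Module.Flat.of_linearEquiv
    ({ (Groth.RefRank.oneEquiv x).symm.toAddEquiv with
       map_smul' := fun r v => ((Groth.RefRank.oneEquiv x).symm.map_smul (f.stalkMap x r) v).trans
        (Algebra.smul_def r _).symm } :
      (Coh.structureModule X).presheaf.stalk x ≃ₗ[S.presheaf.stalk (f x)] X.presheaf.stalk x)

theorem fibDepth_structure_of_asFiber {S : Scheme.{u}} (f : X ⟶ S) {n : ℕ}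
    (h : ∀ x : X, IsClosed ({f.asFiber x} : Set (f.fiber (f x))) →
      (n : ℕ∞) < LocCoh.depth ((f.fiber (f x)).presheaf.stalk (f.asFiber x))
        ((f.fiber (f x)).presheaf.stalk (f.asFiber x))) : FibDepth f n (Coh.structureModule X) := by
  refine fibDepth_of_asFiber f fun x hx => ?_
  have := Groth.PicAux.isIso_pullUnit (f.fiberι (f x))
  let u : (CohIII.fiberMod f (Coh.structureModule X) (f x)).presheaf.stalk (f.asFiber x) ≃ₗ[
      (f.fiber (f x)).presheaf.stalk (f.asFiber x)] (Coh.structureModule (f.fiber (f x))).presheaf.stalk (f.asFiber x) :=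
    ((DerSch.stalkFunctor (f.fiber (f x)) (f.asFiber x)).mapIso
      (asIso (Groth.PicAux.pullUnit (f.fiberι (f x))))).toLinearEquiv
  exact (h x hx).trans_le
    ((Groth.LefAlg.depth_structureModule (f.asFiber x)).ge.trans (Groth.LocCohBase.idealDepth_congr u).ge)

variable {A : Type u} [CommRing A] [IsNoetherianRing A] [X.Over (Spec (CommRingCat.of A))]
  [IsProper (X ↘ Spec (CommRingCat.of A))] [Flat (X ↘ Spec (CommRingCat.of A))]

/-- Vanishing of the powers of the ideal of an ample divisor. -/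
theorem exists_subsingleton_idealMod_pow (I : X.IdealSheafData) (L : X.Modules)
    (hL : ClSub.IsInverseOf L (ClSub.idealMod I)) (hamp : CohB1.IsAmple L) (n : ℕ)
    (hdep : FibDepth (X ↘ Spec (CommRingCat.of A)) n (Coh.structureModule X)) :
    ∃ m₀ : ℕ, ∀ m : ℕ, m₀ ≤ m → ∀ j, j ≤ n →
      Subsingleton (Coh.HH X (ClSub.idealMod (I ^ (m + 1))) j) := by
  have : IsLocallyNoetherian X := LocallyOfFiniteType.isLocallyNoetherian (X ↘ Spec (CommRingCat.of A))
  have hD := Groth.PicAux.isEffCartierIdeal_of_isInvertible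
    (Groth.PicAux.isInvertible_of_isInverseOf hamp.1 hL)
  obtain ⟨m₀, hm₀⟩ := exists_forall_subsingleton_HH (X ↘ Spec (CommRingCat.of A)) hamp hL n _
    (Groth.KTheory.LocFree.isCoh (Groth.LocFree.isFinLocFree_unit X)) (isFlatOver_structure _) hdep
  exact ⟨m₀, fun m hm j hj => (Groth.EulerDeg.hEquiv A (SecTwist.unitorR _ ≪≫
    (Groth.LefVanish.nonempty_idealMod_pow_succ hD m).some) j).symm.toEquiv.subsingleton_congr.2
      (hm₀ (m + 1) (by omega) j hj)⟩

/-- Cohomology of the structure sheaf against the formal limit. -/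
theorem formal_limit_bijective_structure (I : X.IdealSheafData) (L : X.Modules)
    (hL : ClSub.IsInverseOf L (ClSub.idealMod I)) (hamp : CohB1.IsAmple L) (n : ℕ)
    (hdep : FibDepth (X ↘ Spec (CommRingCat.of A)) n (Coh.structureModule X)) (i : ℕ) :
    (i ≤ n → ∀ x : Coh.HH X (Coh.structureModule X) i,
      (∀ m : ℕ, hMap A (ClSub.toSubscheme (I ^ (m + 1))) i x = 0) → x = 0) ∧
    (i < n → ∀ y : (∀ m : ℕ, Coh.HH X (ClSub.quotMod (I ^ (m + 1))) i),
      (∀ m : ℕ, hMap A (Lef.quotMap (Lef.pow_succ_le I m)) i (y (m + 1)) = y m) →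
      ∃ x : Coh.HH X (Coh.structureModule X) i,
        ∀ m : ℕ, hMap A (ClSub.toSubscheme (I ^ (m + 1))) i x = y m) := by
  obtain ⟨m₀, hm₀⟩ := exists_subsingleton_idealMod_pow I L hL hamp n hdep
  exact limit_bijective A (fun m => idealSeq (I ^ (m + 1)))
    (fun m => Groth.PicAux.shortExact_idealMod _) _ (fun _ => rfl)
    (fun m => ClSub.toSubscheme (I ^ (m + 1))) (fun m => (Category.id_comp _).symm)
    (fun m => Lef.quotMap (Lef.pow_succ_le I m))
    (fun m => Groth.LefSections.toSub_quotMap (Lef.pow_succ_le I m)) n m₀ hm₀ i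

end Groth.RelVan
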